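import Groth.Agent.QuietLib.Main
import Groth.Agent.S15046
import Mathlib

/-!
# Frobenius on quotients by regular sequences
-/

set_option autoImplicit false
set_option linter.style.haveILetI false

universe u

open CategoryTheory AlgebraicGeometry RingTheory.Sequence MvPolynomial

namespace QuietLib

theorem isRegular_map {R S : Type u} [CommRing R] [CommRing S] (φ : R →+* S) (h : φ.FaithfullyFlat) {rs : List R}
    (reg : IsRegular R rs) : IsRegular S (rs.map φ) := by
  letI := φ.toAlgebra
  haveI : Module.FaithfullyFlat R S := h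
  exact IsRegular.of_faithfullyFlat (S := S) reg

theorem isPushout_quotientMap {P : Type u} [CommRing P] (φ : P →+* P) (I : Ideal P) :
    IsPushout (CommRingCat.ofHom φ) (CommRingCat.ofHom (Ideal.Quotient.mk I))
      (CommRingCat.ofHom (Ideal.Quotient.mk (I.map φ)))
      (CommRingCat.ofHom (Ideal.quotientMap (I.map φ) φ Ideal.le_comap_map)) := by
  have key : ∀ (c : Limits.PushoutCocone (CommRingCat.ofHom φ) (CommRingCat.ofHom (Ideal.Quotient.mk I))),
      ∀ x ∈ I.map φ, c.inl.hom x = 0 := fun c x hx => by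
    refine (Ideal.map_le_iff_le_comap.2 fun y hy => ?_ : I.map φ ≤ RingHom.ker c.inl.hom) hx
    show c.inl.hom (φ y) = 0
    have h : c.inl.hom (φ y) = c.inr.hom (Ideal.Quotient.mk I y) :=
      RingHom.congr_fun (congrArg CommRingCat.Hom.hom c.condition) y
    rw [h, Ideal.Quotient.eq_zero_iff_mem.2 hy, map_zero]
  refine ⟨⟨by ext x; simp⟩, ⟨Limits.PushoutCocone.IsColimit.mk _
    (fun c => CommRingCat.ofHom (Ideal.Quotient.lift _ c.inl.hom (key c))) (fun c => by ext x; simp)
    (fun c => ?_) (fun c g hg _ => ?_)⟩⟩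
  · ext x
    simpa using RingHom.congr_fun (congrArg CommRingCat.Hom.hom c.condition) x
  · ext x
    simpa using RingHom.congr_fun (congrArg CommRingCat.Hom.hom hg) x

theorem frobenius_quotient (p : ℕ) [Fact p.Prime] (k : Type u) [Field k] [CharP k p] [PerfectRing k p]
    (A : Type u) [CommRing A] [Algebra k A] [CharP A p] [Algebra.Smooth k A] (n : ℕ) (t : Fin n → A)
    (ht : IsRegular A (List.ofFn t)) (r m : ℕ) (v : Fin m → MvPolynomial (Fin r) A)
    (hv : IsRegular (MvPolynomial (Fin r) A ⧸ Ideal.span (Set.range fun i => C (t i) ^ p))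
      (List.ofFn fun j => Ideal.Quotient.mk (Ideal.span (Set.range fun i => C (t i) ^ p)) (v j))) :
    IsRegular (MvPolynomial (Fin r) A) (List.ofFn (fun i => C (t i) ^ (p ^ 2)) ++ List.ofFn (fun j => v j ^ p)) ∧
      (Ideal.quotientMap ((Ideal.span (Set.range (fun i => C (t i) ^ p) ∪ Set.range v)).map (frobenius (MvPolynomial (Fin r) A) p)) (frobenius (MvPolynomial (Fin r) A) p) Ideal.le_comap_map).FaithfullyFlat ∧
      Quiet.IsPthRoot p (Spec.map (CommRingCat.ofHom (Ideal.quotientMap ((Ideal.span (Set.range (fun i => C (t i) ^ p) ∪ Set.range v)).map (frobenius (MvPolynomial (Fin r) A) p)) (frobenius (MvPolynomial (Fin r) A) p) Ideal.le_comap_map))) := by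
  let P := MvPolynomial (Fin r) A
  haveI : Algebra.Smooth A P := ⟨inferInstance, inferInstance⟩
  haveI : Algebra.Smooth k P := Algebra.Smooth.comp k A P
  haveI : Nontrivial A := CharP.nontrivial_of_char_ne_one (R := A) (Fact.out : p.Prime).ne_one
  obtain ⟨hA, -⟩ := Groth.Agent.S15046.result p k A
  obtain ⟨hP, hroot⟩ := Groth.Agent.S15046.result p k P
  set J : Ideal P := Ideal.span (Set.range fun i => C (t i) ^ p) with hJ
  have h1 : IsRegular P (List.ofFn fun i => (C (t i) : P) ^ p) := by
    have h := isRegular_map (C : A →+* P) (RingHom.faithfullyFlat_algebraMap_iff (R := A) (S := P) |>.2 inferInstance) (isRegular_map _ hA ht)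
    have he : ((List.ofFn t).map (frobenius A p)).map (C : A →+* P) = List.ofFn fun i => (C (t i) : P) ^ p := by
      simp [List.map_ofFn, Function.comp_def, frobenius_def]
    rwa [he] at h
  have hl : Ideal.ofList (List.ofFn fun i => (C (t i) : P) ^ p) = J := congrArg Ideal.span (by
    ext x
    simp [List.mem_ofFn])
  have h2 : IsRegular P (List.ofFn (fun i => (C (t i) : P) ^ p) ++ List.ofFn v) := by
    have hm : (List.ofFn fun j => Ideal.Quotient.mk J (v j)) = (List.ofFn v).map (algebraMap P (P ⧸ J)) := by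
      simp [List.map_ofFn, Function.comp_def]
    rw [hm] at hv
    refine ⟨(isWeaklyRegular_append_iff _ _ _).2 ⟨h1.toIsWeaklyRegular, ?_⟩, ?_⟩
    · refine (LinearEquiv.isWeaklyRegular_congr (Submodule.quotEquivOfEq _ J ?_) _).2
        ((isWeaklyRegular_map_algebraMap_iff (P ⧸ J) (P ⧸ J) _).1 hv.toIsWeaklyRegular)
      rw [hl, Ideal.smul_eq_mul, Ideal.mul_top]
    · rw [Ideal.smul_eq_mul, Ideal.mul_top, Ideal.ofList_append, hl]
      intro h
      refine hv.top_ne_smul ?_
      rw [Ideal.smul_eq_mul, Ideal.mul_top, ← Ideal.map_ofList]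
      have := congrArg (Ideal.map (algebraMap P (P ⧸ J))) h
      rw [Ideal.map_top, Ideal.map_sup, Ideal.Quotient.algebraMap_eq, Ideal.map_quotient_self, bot_sup_eq] at this
      exact this
  refine ⟨?_, ?_, ?_⟩
  · have h := isRegular_map _ hP h2
    have he : (List.ofFn (fun i => (C (t i) : P) ^ p) ++ List.ofFn v).map (frobenius P p) =
        List.ofFn (fun i => (C (t i) : P) ^ (p ^ 2)) ++ List.ofFn (fun j => v j ^ p) := by
      simp [List.map_append, List.map_ofFn, Function.comp_def, frobenius_def, ← pow_mul, sq]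
    rwa [he] at h
  · haveI := RingHom.isStableUnderCobaseChange_toMorphismProperty_iff.2 RingHom.FaithfullyFlat.isStableUnderBaseChange.{u}
    exact MorphismProperty.of_isPushout (P := RingHom.toMorphismProperty RingHom.FaithfullyFlat) (isPushout_quotientMap _ _).flip hP
  · exact pthRoot_bc (isPullback_SpecMap_of_isPushout _ _ _ _ (isPushout_quotientMap _ _)).flip hroot

end QuietLib
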