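import Groth.Agent.QuietLib.Main
import Mathlib

/-!
# Lifting quasi-etale morphisms along thickenings
-/

set_option autoImplicit false
set_option linter.style.haveILetI false

universe u

open TensorProduct Polynomial CategoryTheory CategoryTheory.Limits AlgebraicGeometry

namespace QuietLib

theorem tower_one (p : ℕ) (A : Type u) [CommRing A] (a : A) : Quiet.IsRootTower p 1 A (Quiet.RootRing p A a) :=
  ⟨a, inferInstance, inferInstance, ⟨AlgEquiv.refl⟩⟩

theorem isPushout_rootRing (p : ℕ) {A A' : Type u} [CommRing A] [CommRing A'] [Algebra A A'] (a : A) (a' : A')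
    (ha : algebraMap A A' a = a') :
    ∃ (_ : Algebra (Quiet.RootRing p A a) (Quiet.RootRing p A' a'))
      (_ : IsScalarTower A (Quiet.RootRing p A a) (Quiet.RootRing p A' a')),
      Algebra.IsPushout A A' (Quiet.RootRing p A a) (Quiet.RootRing p A' a') := by
  subst ha
  let f : A[X] := X ^ p - C a
  let f' : A'[X] := X ^ p - C (algebraMap A A' a)
  have hr' : eval₂ ((algebraMap A' (AdjoinRoot f')).comp (algebraMap A A')) (AdjoinRoot.root f') f = 0 := by
    have := AdjoinRoot.eval₂_root f'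
    rw [show f' = X ^ p - C (algebraMap A A' a) from rfl, eval₂_sub, eval₂_X_pow, eval₂_C] at this
    rw [show f = X ^ p - C a from rfl, eval₂_sub, eval₂_X_pow, eval₂_C]
    exact this
  letI : Algebra (AdjoinRoot f) (AdjoinRoot f') := (AdjoinRoot.lift _ _ hr').toAlgebra
  haveI : IsScalarTower A (AdjoinRoot f) (AdjoinRoot f') := IsScalarTower.of_algebraMap_eq fun x => by
    rw [RingHom.algebraMap_toAlgebra, AdjoinRoot.algebraMap_eq (f := f), AdjoinRoot.lift_of hr',
      RingHom.comp_apply, ← IsScalarTower.algebraMap_apply]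
  have h0 : (AdjoinRoot.root f : AdjoinRoot f) ^ p = algebraMap A (AdjoinRoot f) a := by
    have := AdjoinRoot.eval₂_root f
    rw [show f = X ^ p - C a from rfl, eval₂_sub, eval₂_X_pow, eval₂_C, sub_eq_zero] at this
    exact this
  have hT : eval₂ (algebraMap A' (A' ⊗[A] AdjoinRoot f)) ((1 : A') ⊗ₜ[A] AdjoinRoot.root f) f' = 0 := by
    rw [show f' = X ^ p - C (algebraMap A A' a) from rfl, eval₂_sub, eval₂_X_pow, eval₂_C, Algebra.TensorProduct.tmul_pow,
      one_pow, h0, sub_eq_zero, Algebra.TensorProduct.algebraMap_apply, Algebra.algebraMap_eq_smul_one,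
      tmul_smul, smul_tmul', ← Algebra.algebraMap_eq_smul_one]
    rfl
  let G : AdjoinRoot f' →ₐ[A'] A' ⊗[A] AdjoinRoot f := AdjoinRoot.liftAlgHom _ (Algebra.ofId A' _) _ hT
  let F : A' ⊗[A] AdjoinRoot f →ₐ[A'] AdjoinRoot f' :=
    Algebra.TensorProduct.lift (Algebra.ofId A' _) (IsScalarTower.toAlgHom A (AdjoinRoot f) (AdjoinRoot f'))
      fun _ _ => Commute.all _ _
  have hF : ∀ x : AdjoinRoot f, F ((1 : A') ⊗ₜ x) = algebraMap _ _ x := fun x => by simp [F]
  have hroot : algebraMap (AdjoinRoot f) (AdjoinRoot f') (AdjoinRoot.root f) = AdjoinRoot.root f' :=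
    AdjoinRoot.lift_root hr'
  have hGr : G (AdjoinRoot.root f') = (1 : A') ⊗ₜ[A] AdjoinRoot.root f := AdjoinRoot.liftAlgHom_root _ _ _ hT
  have h1 : F.comp G = AlgHom.id A' _ := AdjoinRoot.algHom_ext (by
    rw [AlgHom.comp_apply, hGr, hF, hroot]
    rfl)
  have h2 : G.comp F = AlgHom.id A' _ := Algebra.TensorProduct.ext (Algebra.ext_id _ _ _) (AdjoinRoot.algHom_ext (by
    change G (F ((1 : A') ⊗ₜ AdjoinRoot.root f)) = (1 : A') ⊗ₜ AdjoinRoot.root f
    rw [hF, hroot, hGr]))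
  letI : Algebra (AdjoinRoot f) (A' ⊗[A] AdjoinRoot f) := Algebra.TensorProduct.rightAlgebra
  refine ⟨inferInstanceAs (Algebra (AdjoinRoot f) (AdjoinRoot f')), inferInstanceAs (IsScalarTower A (AdjoinRoot f) (AdjoinRoot f')), ?_⟩
  exact Algebra.IsPushout.of_equiv (R := A) (R' := A') (S := AdjoinRoot f) (S' := A' ⊗[A] AdjoinRoot f)
    (AlgEquiv.ofAlgHom F G h1 h2) (RingHom.ext hF)

/-- Towers lift along surjections. -/
theorem tower_lift (p : ℕ) : ∀ (n : ℕ) (A A' B' : Type u) [CommRing A] [CommRing A'] [CommRing B']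
    [Algebra A A'] [Algebra A' B'] [Algebra A B'] [IsScalarTower A A' B'],
    Function.Surjective (algebraMap A A') → Quiet.IsRootTower p n A' B' →
      ∃ (B : Type u) (_ : CommRing B) (_ : Algebra A B) (_ : Algebra B B') (_ : IsScalarTower A B B'),
        Quiet.IsRootTower p n A B ∧ Algebra.IsPushout A A' B B' ∧ Function.Surjective (algebraMap B B')
  | 0, A, A', B', _, _, _, _, _, _, _, hs, ⟨e⟩ => by
    refine ⟨A, inferInstance, inferInstance, inferInstance, inferInstance, ⟨AlgEquiv.refl⟩, ?_, ?_⟩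
    · refine Algebra.IsPushout.of_equiv (R := A) (R' := A') (S := A) (S' := A') e.symm ?_
      refine RingHom.ext fun x => ?_
      show e.symm (algebraMap A A' x) = algebraMap A B' x
      have h := e.symm.commutes (algebraMap A A' x)
      simp only [Algebra.algebraMap_self, RingHom.id_apply] at h
      rw [h, ← IsScalarTower.algebraMap_apply]
    · intro b
      obtain ⟨x, hx⟩ := hs (e b)
      refine ⟨x, ?_⟩
      rw [IsScalarTower.algebraMap_apply A A' B', hx, ← e.symm.commutes]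
      simp
  | n + 1, A, A', B', _, _, _, _, _, _, _, hs, ⟨a', iR, htow, h⟩ => by
    obtain ⟨a, ha⟩ := hs a'
    letI := iR
    haveI : IsScalarTower A' (Quiet.RootRing p A' a') B' := htow
    obtain ⟨iRR, htRR, hP⟩ := isPushout_rootRing p a a' ha
    letI := iRR
    haveI := htRR
    haveI := hP
    letI : Algebra (Quiet.RootRing p A a) B' :=
      ((algebraMap (Quiet.RootRing p A' a') B').comp (algebraMap (Quiet.RootRing p A a) (Quiet.RootRing p A' a'))).toAlgebra
    haveI : IsScalarTower (Quiet.RootRing p A a) (Quiet.RootRing p A' a') B' := IsScalarTower.of_algebraMap_eq fun _ => rfl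
    have hRs : Function.Surjective (algebraMap (Quiet.RootRing p A a) (Quiet.RootRing p A' a')) := fun y => by
      obtain ⟨z, rfl⟩ := (Algebra.IsPushout.equiv A A' (Quiet.RootRing p A a) (Quiet.RootRing p A' a')).surjective y
      obtain ⟨x, rfl⟩ := Algebra.TensorProduct.includeRight_surjective (R := A) (Quiet.RootRing p A a) hs z
      exact ⟨x, by simp [Algebra.IsPushout.equiv_tmul]⟩
    obtain ⟨B, cB, iB, iBB, tB, hn, hP2, hBs⟩ := tower_lift p n (Quiet.RootRing p A a) (Quiet.RootRing p A' a') B' hRs h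
    letI := cB; letI := iB; letI := iBB
    haveI := tB; haveI := hP2
    letI : Algebra A B := ((algebraMap (Quiet.RootRing p A a) B).comp (algebraMap A (Quiet.RootRing p A a))).toAlgebra
    haveI : IsScalarTower A (Quiet.RootRing p A a) B := IsScalarTower.of_algebraMap_eq fun _ => rfl
    haveI : IsScalarTower A (Quiet.RootRing p A a) B' := IsScalarTower.of_algebraMap_eq fun x => by
      show _ = algebraMap (Quiet.RootRing p A' a') B' (algebraMap _ _ (algebraMap A (Quiet.RootRing p A a) x))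
      rw [← IsScalarTower.algebraMap_apply A (Quiet.RootRing p A a) (Quiet.RootRing p A' a'),
        IsScalarTower.algebraMap_apply A A' (Quiet.RootRing p A' a'),
        ← IsScalarTower.algebraMap_apply A' (Quiet.RootRing p A' a') B', ← IsScalarTower.algebraMap_apply]
    haveI : IsScalarTower A B B' := IsScalarTower.of_algebraMap_eq fun x => by
      rw [IsScalarTower.algebraMap_apply A (Quiet.RootRing p A a) B', IsScalarTower.algebraMap_apply A (Quiet.RootRing p A a) B,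
        ← IsScalarTower.algebraMap_apply (Quiet.RootRing p A a) B B']
    haveI : IsScalarTower A (Quiet.RootRing p A' a') B' := IsScalarTower.of_algebraMap_eq fun x => by
      rw [IsScalarTower.algebraMap_apply A A' B', IsScalarTower.algebraMap_apply A A' (Quiet.RootRing p A' a'),
        ← IsScalarTower.algebraMap_apply A' (Quiet.RootRing p A' a') B']
    haveI : Algebra.IsPushout A (Quiet.RootRing p A a) A' (Quiet.RootRing p A' a') := hP.symm
    haveI : Algebra.IsPushout (Quiet.RootRing p A a) B (Quiet.RootRing p A' a') B' := hP2.symm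
    have h3 : Algebra.IsPushout A B A' B' :=
      (Algebra.IsPushout.comp_iff A (Quiet.RootRing p A a) A' (Quiet.RootRing p A' a') (T := B) (T' := B')).2 inferInstance
    exact ⟨B, cB, inferInstance, iBB, inferInstance, ⟨a, inferInstance, inferInstance, hn⟩, h3.symm, hBs⟩

variable {p : ℕ} in
theorem exists_quiet_lift [Fact p.Prime] {T U U' : Scheme.{u}} [FrobSch.IsCharP T p] (i : U ⟶ T) [IsClosedImmersion i]
    [Surjective i] (f' : U' ⟶ U) (hf' : Quiet.IsQuiet p f') (x : U') :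
    ∃ (V : U'.Opens) (T' : Scheme.{u}) (q : T' ⟶ T) (j : (V : Scheme.{u}) ⟶ T'),
      x ∈ V ∧ Quiet.IsQuiet p q ∧ IsPullback j (V.ι ≫ f') q i := by
  obtain ⟨V, Y', r, e, hxV, hr, he, hre⟩ := hf' x
  haveI : (EtCoh.bc i).IsEquivalence :=
    EtInvLib.bc_isEquivalence i fun X₀ x₀ _ x => UHomeo.exists_liftData i x₀ x
  obtain ⟨E, π, a, hπ, hp⟩ := exists_descend i e
  haveI := hπ
  haveI : IsClosedImmersion a := MorphismProperty.of_isPullback (P := @IsClosedImmersion) hp.flip inferInstance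
  haveI : Surjective a := MorphismProperty.of_isPullback (P := @Surjective) hp.flip inferInstance
  rw [pthRoot_iff] at hr
  obtain ⟨U0, hyU0, hU0⟩ := hr (r ⟨x, hxV⟩)
  have hcl : IsClosed (a.base '' (U0 : Set Y')ᶜ) :=
    (IsClosedImmersion.base_closed (f := a)).isClosedMap _ U0.isOpen.isClosed_compl
  obtain ⟨W, hW, hxW, eW⟩ := TopologicalSpace.Opens.isBasis_iff_nbhd.mp E.isBasis_affineOpens
    (show a (r ⟨x, hxV⟩) ∈ (⟨(a.base '' (U0 : Set Y')ᶜ)ᶜ, hcl.isOpen_compl⟩ : E.Opens) from fun ⟨y, hy, he'⟩ =>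
      hy (((IsClosedImmersion.base_closed (f := a)).injective he').symm ▸ hyU0))
  obtain ⟨hW', hV', hroot⟩ : Good p r (a ⁻¹ᵁ W) := good_mono hU0 (hW.preimage a) fun y hy => by
    by_contra hc
    exact eW hy ⟨y, hc, rfl⟩
  letI : Algebra Γ(E, W) Γ(Y', a ⁻¹ᵁ W) := (a.app W).hom.toAlgebra
  letI : Algebra Γ(Y', a ⁻¹ᵁ W) Γ(V.toScheme, r ⁻¹ᵁ a ⁻¹ᵁ W) := (r.app (a ⁻¹ᵁ W)).hom.toAlgebra
  letI : Algebra Γ(E, W) Γ(V.toScheme, r ⁻¹ᵁ a ⁻¹ᵁ W) := (a.app W ≫ r.app (a ⁻¹ᵁ W)).hom.toAlgebra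
  haveI : IsScalarTower Γ(E, W) Γ(Y', a ⁻¹ᵁ W) Γ(V.toScheme, r ⁻¹ᵁ a ⁻¹ᵁ W) :=
    IsScalarTower.of_algebraMap_eq fun _ => rfl
  obtain ⟨n, hn⟩ := hroot
  obtain ⟨B, cB, iB, iBB, tB, hB, hPB, -⟩ := tower_lift p n Γ(E, W) Γ(Y', a ⁻¹ᵁ W) Γ(V.toScheme, r ⁻¹ᵁ a ⁻¹ᵁ W)
    (a.app_surjective W hW) hn
  letI := cB; letI := iB; letI := iBB
  haveI := tB
  let φ : Γ(E, W) ⟶ CommRingCat.of B := CommRingCat.ofHom (algebraMap Γ(E, W) B)
  let ψ : CommRingCat.of B ⟶ Γ(V.toScheme, r ⁻¹ᵁ a ⁻¹ᵁ W) := CommRingCat.ofHom (algebraMap B Γ(V.toScheme, r ⁻¹ᵁ a ⁻¹ᵁ W))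
  have h0 := CommRingCat.isPushout_iff_isPushout.2 hPB
  have h1 : IsPushout (a.app W) φ (r.app (a ⁻¹ᵁ W)) ψ := h0
  have h2 : IsPullback (Spec.map ψ) (Spec.map (r.app (a ⁻¹ᵁ W))) (Spec.map φ) (Spec.map (a.app W)) :=
    (isPullback_SpecMap_of_isPushout _ _ _ _ h1).flip
  have h3 := Groth.Agent.PushFun.isPullback_chart a hW hW' rfl
  rw [Scheme.Hom.appLE_eq_app] at h3
  have h4 := (h2.paste_vert h3).paste_vert hp
  let V'' : V.toScheme.Opens := r ⁻¹ᵁ a ⁻¹ᵁ W
  let ι' := (V.ι.isoImage V'').symm ≪≫ IsAffineOpen.isoSpec hV'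
  refine ⟨V.ι ''ᵁ V'', Spec (CommRingCat.of B), (Spec.map φ ≫ hW.fromSpec) ≫ π, ι'.hom ≫ Spec.map ψ,
    ⟨⟨x, hxV⟩, hxW, rfl⟩, ?_, ?_⟩
  · haveI := FrobSch.IsCharP.of_hom (hW.fromSpec ≫ π) p
    intro t
    refine ⟨⊤, Spec Γ(E, W), (Scheme.topIso _).hom ≫ Spec.map φ, hW.fromSpec ≫ π, trivial, ?_, ?_, by simp⟩
    · refine pthRoot_comp (pthRoot_iso _) ?_ (X := Spec Γ(E, W))
      rw [pthRoot_iff]
      refine fun s => ⟨⊤, trivial, isAffineOpen_top _, isAffineOpen_top _, ?_⟩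
      show IsRootHom p (Spec.map φ).appTop.hom
      have h5 : (Spec.map φ).appTop = (Scheme.ΓSpecIso Γ(E, W)).hom ≫ φ ≫ (Scheme.ΓSpecIso (CommRingCat.of B)).inv := by
        rw [← Category.assoc, Iso.eq_comp_inv]
        exact Scheme.ΓSpecIso_naturality φ
      rw [h5]
      have hb1 : Function.Bijective (Scheme.ΓSpecIso Γ(E, W)).hom.hom := ConcreteCategory.bijective_of_isIso _
      have hb2 : Function.Bijective (Scheme.ΓSpecIso (CommRingCat.of B)).inv.hom := ConcreteCategory.bijective_of_isIso _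
      exact isRootHom_comp (isRootHom_of_bijective p _ hb1)
        (isRootHom_comp (isRootHom_algebraMap.2 ⟨n, hB⟩) (isRootHom_of_bijective p _ hb2))
    · exact inferInstance
  · have hV'' : ι'.hom ≫ hV'.fromSpec ≫ V.ι = (V.ι ''ᵁ V'').ι := by
      simp only [ι', Iso.trans_hom, Iso.symm_hom, Category.assoc, IsAffineOpen.isoSpec_hom_fromSpec_assoc]
      rw [Iso.inv_comp_eq, Scheme.Hom.isoImage_hom_ι]
    have hsnd : ι'.hom ≫ ((Spec.map (r.app (a ⁻¹ᵁ W))) ≫ hW'.fromSpec) ≫ e = (V.ι ''ᵁ V'').ι ≫ f' := by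
      rw [← Scheme.Hom.appLE_eq_app, IsAffineOpen.SpecMap_appLE_fromSpec r hW' hV' le_rfl, ← hV'', Category.assoc,
        hre]
      simp [V'']
    refine h4.of_iso ι'.symm (Iso.refl _) (Iso.refl _) (Iso.refl _) ?_ ?_ (by simp) (by simp)
    · simp
    · rw [Iso.refl_hom, Category.comp_id, ← hsnd, Iso.symm_hom, Iso.inv_hom_id_assoc]

end QuietLib
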