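import Groth.Agent.QuietLib.Tower
import Groth.Agent.PushFunLib.Main
import Groth.Agent.UHomeoLib.Lift
import Groth.Prelude.Def_Frob
import Groth.Prelude.Def_EtBase
import Mathlib

/-!
# `p`-th root morphisms and quasi-etale morphisms
-/

set_option autoImplicit false
set_option linter.style.haveILetI false

universe u

open CategoryTheory CategoryTheory.Limits AlgebraicGeometry

namespace QuietLib

variable {p : ℕ}

/-- An affine open over which `r` is a tower of root extractions. -/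
def Good (p : ℕ) {Y X : Scheme.{u}} (r : Y ⟶ X) (U : X.Opens) : Prop :=
  IsAffineOpen U ∧ IsAffineOpen (r ⁻¹ᵁ U) ∧ IsRootHom p (r.app U).hom

theorem pthRoot_iff {Y X : Scheme.{u}} (r : Y ⟶ X) :
    Quiet.IsPthRoot p r ↔ ∀ x : X, ∃ U : X.Opens, x ∈ U ∧ Good p r U :=
  ⟨fun h x => by
      obtain ⟨U, hx, hU, h⟩ := h x
      exact ⟨U.1, hx, U.2, hU, h⟩,
    fun h x => by
      obtain ⟨U, hx, hU, hU', h⟩ := h x
      exact ⟨⟨U, hU⟩, hx, hU', h⟩⟩

/-- Good opens are stable under base change. -/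
theorem good_bc {X Y Z T : Scheme.{u}} {i : T ⟶ X} {q : T ⟶ Z} {g : X ⟶ Y} {k : Z ⟶ Y}
    (h : IsPullback i q g k) {U : Y.Opens} (hU : Good p k U) {UX : X.Opens} (hX : IsAffineOpen UX)
    (eX : UX ≤ g ⁻¹ᵁ U) : Good p i UX := by
  obtain ⟨hUa, hZ, hk⟩ := hU
  haveI : IsAffine (U : Scheme.{u}) := hUa
  haveI : IsAffine (k ⁻¹ᵁ U : Scheme.{u}) := hZ
  haveI : IsAffine (UX : Scheme.{u}) := hX
  have h1 := (isPullback_morphismRestrict i UX).paste_vert h.flip.flip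
  rw [← Scheme.Hom.resLE_comp_ι g eX] at h1
  have h2 := isPullback_morphismRestrict k U
  have hw : ((i ∣_ UX) ≫ g.resLE U UX eX) ≫ U.ι = ((i ⁻¹ᵁ UX).ι ≫ q) ≫ k := by
    rw [Category.assoc, h1.w]
  have h3 : IsPullback (i ∣_ UX) (h2.lift _ _ hw) (g.resLE U UX eX) (k ∣_ U) := by
    refine IsPullback.of_bot ?_ (h2.lift_fst _ _ hw).symm h2
    rw [h2.lift_snd]
    exact h1
  haveI : IsAffineHom (k ∣_ U) := inferInstance
  haveI : IsAffineHom (i ∣_ UX) := MorphismProperty.of_isPullback (P := @IsAffineHom) h3.flip inferInstance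
  have hT : IsAffineOpen (i ⁻¹ᵁ UX) := isAffine_of_isAffineHom (i ∣_ UX)
  have eT' : i ⁻¹ᵁ UX ≤ q ⁻¹ᵁ (k ⁻¹ᵁ U) := by
    rw [← Scheme.Hom.comp_preimage, ← h.w, Scheme.Hom.comp_preimage]
    exact fun x hx => eX hx
  refine ⟨hX, hT, ?_⟩
  have hpo := Groth.Agent.PushFun.isPushout_appLE h hUa hX eX hZ rfl hT rfl eT'
  rw [Scheme.Hom.appLE_eq_app, Scheme.Hom.appLE_eq_app] at hpo
  exact isRootHom_pushout hpo hk

theorem good_mono {Y X : Scheme.{u}} {r : Y ⟶ X} {U U' : X.Opens} (hU : Good p r U) (hU' : IsAffineOpen U')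
    (e : U' ≤ U) : Good p r U' :=
  good_bc (g := 𝟙 X) (IsPullback.of_vert_isIso ⟨by simp⟩ : IsPullback r (𝟙 Y) (𝟙 X) r) hU hU' e

theorem pthRoot_bc {X Y Z T : Scheme.{u}} {i : T ⟶ X} {q : T ⟶ Z} {g : X ⟶ Y} {k : Z ⟶ Y}
    (h : IsPullback i q g k) (hk : Quiet.IsPthRoot p k) : Quiet.IsPthRoot p i := by
  rw [pthRoot_iff] at hk ⊢
  intro x
  obtain ⟨U, hxU, hU⟩ := hk (g x)
  obtain ⟨UX, hX, hxX, eX⟩ :=
    TopologicalSpace.Opens.isBasis_iff_nbhd.mp X.isBasis_affineOpens (show x ∈ g ⁻¹ᵁ U from hxU)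
  exact ⟨UX, hxX, good_bc h hU hX eX⟩

theorem pthRoot_iso {Y X : Scheme.{u}} (r : Y ⟶ X) [IsIso r] : Quiet.IsPthRoot p r := by
  rw [pthRoot_iff]
  intro x
  obtain ⟨U, hU, hxU, -⟩ := TopologicalSpace.Opens.isBasis_iff_nbhd.mp X.isBasis_affineOpens
    (show x ∈ (⊤ : X.Opens) from trivial)
  exact ⟨U, hxU, hU, hU.preimage_of_isIso r, isRootHom_of_bijective p _ (ConcreteCategory.bijective_of_isIso (r.app U))⟩

theorem univHomeo_good [Fact p.Prime] {Y X : Scheme.{u}} [FrobSch.IsCharP X p] {r : Y ⟶ X} {U : X.Opens}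
    (hU : Good p r U) :
    IsIntegralHom (r ∣_ U) ∧ UniversallyInjective (r ∣_ U) ∧ Surjective (r ∣_ U) := by
  obtain ⟨hUa, hV, hr⟩ := hU
  have h := (Groth.Agent.S0415.result _).1 (univHomeo_of_isRootHom hr (FrobSch.natCast_eq_zero_app X p U))
  have key : ∀ (P : MorphismProperty Scheme.{u}) [P.RespectsIso],
      P (Spec.map (CommRingCat.ofHom (r.app U).hom)) → P (r ∣_ U) := by
    intro P _ hP
    have h1 := (Groth.Agent.PushFun.isPullback_chart r hUa hV rfl).flip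
    have h2 : IsPullback (r ⁻¹ᵁ U).ι (r ∣_ U) r U.ι := (isPullback_morphismRestrict r U).flip
    have h3 : IsPullback hV.fromSpec (Spec.map (r.appLE U (r ⁻¹ᵁ U) le_rfl) ≫ hUa.isoSpec.inv) r U.ι :=
      h1.of_iso (Iso.refl _) (Iso.refl _) hUa.isoSpec.symm (Iso.refl _) (by simp) (by simp) (by simp)
        ((Category.comp_id _).trans hUa.isoSpec_inv_ι.symm)
    rw [← h2.isoIsPullback_hom_snd _ _ h3, P.cancel_left_of_respectsIso, P.cancel_right_of_respectsIso,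
      Scheme.Hom.appLE_eq_app]
    exact hP
  exact ⟨key @IsIntegralHom h.1, key @UniversallyInjective h.2.1, key @Surjective h.2.2⟩

theorem univHomeo_pthRoot [Fact p.Prime] {Y X : Scheme.{u}} [FrobSch.IsCharP X p] {r : Y ⟶ X}
    (hr : Quiet.IsPthRoot p r) : IsIntegralHom r ∧ UniversallyInjective r ∧ Surjective r := by
  rw [pthRoot_iff] at hr
  choose U hxU hU using hr
  have hc : iSup U = ⊤ := eq_top_iff.2 fun x _ => TopologicalSpace.Opens.mem_iSup.2 ⟨x, hxU x⟩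
  exact ⟨IsZariskiLocalAtTarget.of_iSup_eq_top U hc fun x => (univHomeo_good (hU x)).1,
    IsZariskiLocalAtTarget.of_iSup_eq_top U hc fun x => (univHomeo_good (hU x)).2.1,
    IsZariskiLocalAtTarget.of_iSup_eq_top U hc fun x => (univHomeo_good (hU x)).2.2⟩

theorem pthRoot_comp [Fact p.Prime] {W V X : Scheme.{u}} [FrobSch.IsCharP X p] {r : W ⟶ V} {s : V ⟶ X}
    (hr : Quiet.IsPthRoot p r) (hs : Quiet.IsPthRoot p s) : Quiet.IsPthRoot p (r ≫ s) := by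
  obtain ⟨hi, hu, hsu⟩ := univHomeo_pthRoot hs
  rw [pthRoot_iff] at hr hs ⊢
  intro x
  obtain ⟨v, rfl⟩ := s.surjective x
  obtain ⟨U, hxU, hU⟩ := hs (s v)
  obtain ⟨Ur, hvr, hUr⟩ := hr v
  have hcl : IsClosed (s.base '' (Ur : Set V)ᶜ) := s.isClosedMap _ Ur.isOpen.isClosed_compl
  let O : X.Opens := ⟨(U : Set X) ∩ (s.base '' (Ur : Set V)ᶜ)ᶜ, U.isOpen.inter hcl.isOpen_compl⟩
  have hxO : s v ∈ O := ⟨hxU, by
    rintro ⟨v', hv', he⟩
    exact hv' ((s.injective he).symm ▸ hvr)⟩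
  obtain ⟨U', hU', hxU', eO⟩ := TopologicalSpace.Opens.isBasis_iff_nbhd.mp X.isBasis_affineOpens hxO
  have g1 : Good p s U' := good_mono hU hU' fun y hy => (eO hy).1
  have g2 : Good p r (s ⁻¹ᵁ U') := good_mono hUr g1.2.1 fun w hw => by
    by_contra hc
    exact (eO (show s w ∈ U' from hw)).2 ⟨w, hc, rfl⟩
  refine ⟨U', hxU', hU', g2.2.1, ?_⟩
  have h := isRootHom_comp g1.2.2 g2.2.2
  rw [Scheme.Hom.comp_app]
  exact h

theorem syntMor_pthRoot [Fact p.Prime] {Y X : Scheme.{u}} {r : Y ⟶ X} (hr : Quiet.IsPthRoot p r) :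
    TransLib.SyntMor r := by
  rw [pthRoot_iff] at hr
  refine (TransLib.isSyntomicMor_iff r).1 fun y => ?_
  obtain ⟨U, hyU, hUa, hV, h⟩ := hr (r y)
  refine ⟨⟨_, hV⟩, ⟨U, hUa⟩, le_rfl, hyU, ?_⟩
  have := syntHom_of_isRootHom h
  rw [← Scheme.Hom.appLE_eq_app] at this
  exact this

theorem isQuiet_bc {X Y X' Y' : Scheme.{u}} (f : Y ⟶ X) (g : X' ⟶ X) (f' : Y' ⟶ X') (g' : Y' ⟶ Y)
    (H : IsPullback g' f' f g) (hf : Quiet.IsQuiet p f) : Quiet.IsQuiet p f' := by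
  intro y
  obtain ⟨V, Z, r, e, hyV, hr, he, hre⟩ := hf (g' y)
  have h1 := (isPullback_morphismRestrict g' V).paste_vert H
  rw [← hre] at h1
  let r' : (g' ⁻¹ᵁ V : Scheme.{u}) ⟶ pullback e g :=
    pullback.lift ((g' ∣_ V) ≫ r) ((g' ⁻¹ᵁ V).ι ≫ f') (by rw [Category.assoc]; exact h1.w)
  have hs : r' ≫ pullback.snd e g = (g' ⁻¹ᵁ V).ι ≫ f' := pullback.lift_snd _ _ _
  have h2 : IsPullback (g' ∣_ V) r' r (pullback.fst e g) := by
    refine IsPullback.of_bot ?_ (pullback.lift_fst _ _ _).symm (IsPullback.of_hasPullback e g)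
    rw [hs]
    exact h1
  exact ⟨g' ⁻¹ᵁ V, pullback e g, r', pullback.snd e g, hyV, pthRoot_bc h2.flip hr, inferInstance, hs⟩

/-- Etale schemes descend along an equivalence of small etale sites. -/
theorem exists_descend {V Y T : Scheme.{u}} (r : V ⟶ Y) [(EtCoh.bc r).IsEquivalence] (q : T ⟶ V) [Etale q] :
    ∃ (E : Scheme.{u}) (π : E ⟶ Y) (a : T ⟶ E), Etale π ∧ IsPullback a q π r := by
  let φ := (EtCoh.bc r).objObjPreimageIso (Scheme.Etale.mk q)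
  let E : Scheme.{u} := ((EtCoh.bc r).objPreimage (Scheme.Etale.mk q)).left
  let π : E ⟶ Y := ((EtCoh.bc r).objPreimage (Scheme.Etale.mk q)).hom
  let ψ : pullback π r ≅ T := (Scheme.Etale.forget _ ⋙ Over.forget _).mapIso φ
  have hψ : ψ.hom ≫ q = pullback.snd π r := Over.w φ.hom.hom
  have hsnd : ψ.inv ≫ pullback.snd π r = q := by rw [← hψ, ψ.inv_hom_id_assoc]
  refine ⟨E, π, ψ.inv ≫ pullback.fst π r, ((EtCoh.bc r).objPreimage (Scheme.Etale.mk q)).prop, ?_⟩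
  exact IsPullback.of_iso_pullback ⟨by rw [Category.assoc, pullback.condition, ← Category.assoc, hsnd]⟩ ψ.symm rfl hsnd

theorem isQuiet_comp [Fact p.Prime] {X Y Z : Scheme.{u}} [FrobSch.IsCharP X p] (f : Y ⟶ X) (g : Z ⟶ Y)
    (hf : Quiet.IsQuiet p f) (hg : Quiet.IsQuiet p g) : Quiet.IsQuiet p (g ≫ f) := by
  intro z
  obtain ⟨W, Z', r', e', hzW, hr', he', hre'⟩ := hg z
  obtain ⟨V, Y', r, e, hyV, hr, he, hre⟩ := hf (g z)
  haveI := FrobSch.IsCharP.of_hom e p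
  haveI : FrobSch.IsCharP Z' p := FrobSch.IsCharP.of_hom (e' ≫ f) p
  obtain ⟨hi, hu, hsu⟩ := univHomeo_pthRoot hr
  haveI := hi
  haveI := hu
  haveI := hsu
  haveI : (EtCoh.bc r).IsEquivalence :=
    EtInvLib.bc_isEquivalence r fun X₀ x₀ _ x => UHomeo.exists_liftData r x₀ x
  haveI : Etale (e' ∣_ V) := MorphismProperty.of_isPullback (P := @Etale) (isPullback_morphismRestrict e' V).flip he'
  obtain ⟨E, π, a, hπ, hp⟩ := exists_descend r (e' ∣_ V)
  haveI := hπ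
  haveI := FrobSch.IsCharP.of_hom π p
  have ha : Quiet.IsPthRoot p a := pthRoot_bc hp hr
  have hr'' : Quiet.IsPthRoot p (r' ∣_ (e' ⁻¹ᵁ V)) := pthRoot_bc (isPullback_morphismRestrict r' _) hr'
  let W' : W.toScheme.Opens := r' ⁻¹ᵁ (e' ⁻¹ᵁ V)
  let ι' := W.ι.isoImage W'
  refine ⟨W.ι ''ᵁ W', E, ι'.inv ≫ (r' ∣_ (e' ⁻¹ᵁ V)) ≫ a, π ≫ e, ?_,
    pthRoot_comp (pthRoot_iso _) (pthRoot_comp hr'' ha), inferInstance, ?_⟩
  · refine ⟨⟨z, hzW⟩, ?_, rfl⟩
    show (r' ≫ e') ⟨z, hzW⟩ ∈ V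
    rw [hre']
    exact hyV
  · rw [Category.assoc, Category.assoc, ← Category.assoc a, hp.w, Category.assoc, hre, ← Category.assoc (e' ∣_ V),
      morphismRestrict_ι, Category.assoc, ← Category.assoc (r' ∣_ _), morphismRestrict_ι, Category.assoc,
      ← Category.assoc r', hre', Iso.inv_comp_eq, ← Category.assoc ι'.hom, Scheme.Hom.isoImage_hom_ι]
    simp [W']

theorem isSyntomicMor_quiet [Fact p.Prime] {X Y : Scheme.{u}} (f : Y ⟶ X) (hf : Quiet.IsQuiet p f) :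
    Synt.IsSyntomicMor f := by
  choose V Y' r e hyV hr he hre using hf
  rw [TransLib.isSyntomicMor_iff]
  refine IsZariskiLocalAtSource.of_iSup_eq_top V
    (eq_top_iff.2 fun y _ => TopologicalSpace.Opens.mem_iSup.2 ⟨y, hyV y⟩) fun y => ?_
  rw [← hre y, ← TransLib.isSyntomicMor_iff, CIRingLib.isSyntomicMor_iff_isCIMorphism]
  haveI := he y
  exact CIRingLib.isCIMorphism_comp _ _
    ((CIRingLib.isSyntomicMor_iff_isCIMorphism _).1 ((TransLib.isSyntomicMor_iff _).2 (syntMor_pthRoot (hr y))))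
    ((CIRingLib.isSyntomicMor_iff_isCIMorphism _).1 ((TransLib.isSyntomicMor_iff _).2 (TransLib.syntMor_of_smooth _)))

end QuietLib
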