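import Groth.Prelude.Def_W4c2gaugesfzipsQuiet
import Groth.Agent.AWNLib.Basic
import Groth.Agent.CIRingLib.MorApps
import Groth.Agent.S18934
import Mathlib

/-!
# Towers of `p`-th root extractions
-/

set_option autoImplicit false
set_option linter.style.haveILetI false

universe u

open TensorProduct Polynomial CategoryTheory AlgebraicGeometry

namespace QuietLib

/-- `φ` is a tower of root extractions. -/
def IsRootHom (p : ℕ) {A B : Type u} [CommRing A] [CommRing B] (φ : A →+* B) : Prop :=
  letI := φ.toAlgebra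
  ∃ n : ℕ, Quiet.IsRootTower p n A B

theorem isRootHom_algebraMap {p : ℕ} {A B : Type u} [CommRing A] [CommRing B] [Algebra A B] :
    IsRootHom p (algebraMap A B) ↔ ∃ n : ℕ, Quiet.IsRootTower p n A B := by
  rw [IsRootHom, toAlgebra_algebraMap]

theorem isPushout_of_bijective {A A' B B' : Type u} [CommRing A] [CommRing A'] [CommRing B] [CommRing B']
    [Algebra A A'] [Algebra A B] [Algebra A' B'] [Algebra B B'] [Algebra A B'] [IsScalarTower A A' B']
    [IsScalarTower A B B'] (hA : Function.Bijective (algebraMap A A'))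
    (hB : Function.Bijective (algebraMap B B')) : Algebra.IsPushout A A' B B' := by
  let l : A' ⊗[A] B →ₐ[A'] B' := Algebra.TensorProduct.lift (Algebra.ofId A' B') (IsScalarTower.toAlgHom A B B')
    fun _ _ => Commute.all _ _
  have hl : ∀ b : B, l ((1 : A') ⊗ₜ b) = algebraMap B B' b := fun b => by simp [l]
  have hs : Function.Surjective (Algebra.TensorProduct.includeRight : B →ₐ[A] A' ⊗[A] B) :=
    Algebra.TensorProduct.includeRight_surjective _ hA.2
  have hb : Function.Bijective l := by
    refine ⟨fun x y h => ?_, fun c => ?_⟩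
    · obtain ⟨x, rfl⟩ := hs x
      obtain ⟨y, rfl⟩ := hs y
      simp only [Algebra.TensorProduct.includeRight_apply, hl] at h
      rw [hB.1 h]
    · obtain ⟨b, rfl⟩ := hB.2 c
      exact ⟨_, hl b⟩
  letI : Algebra B (A' ⊗[A] B) := Algebra.TensorProduct.rightAlgebra
  refine Algebra.IsPushout.of_equiv (R := A) (R' := A') (S := B) (S' := A' ⊗[A] B) (AlgEquiv.ofBijective l hb) ?_
  exact RingHom.ext hl

theorem tower_bc (p : ℕ) : ∀ (n : ℕ) {A A' B B' : Type u} [CommRing A] [CommRing A'] [CommRing B] [CommRing B']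
    [Algebra A A'] [Algebra A B] [Algebra A' B'] [Algebra B B'] [Algebra A B'] [IsScalarTower A A' B']
    [IsScalarTower A B B'] [Algebra.IsPushout A A' B B'],
    Quiet.IsRootTower p n A B → Quiet.IsRootTower p n A' B'
  | 0, A, A', B, B', _, _, _, _, _, _, _, _, _, _, _, _, ⟨e⟩ =>
    ⟨(Algebra.IsPushout.equiv A A' B B').symm.trans
      ((Algebra.TensorProduct.congr (AlgEquiv.refl (R := A') (A₁ := A')) e).trans (Algebra.TensorProduct.rid A A' A'))⟩
  | n + 1, A, A', B, B', _, _, _, _, _, _, _, _, _, _, _, _, ⟨a, iAlg, htow, h⟩ => by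
    let f : A[X] := X ^ p - C a
    let a' : A' := algebraMap A A' a
    let f' : A'[X] := X ^ p - C a'
    change Algebra (AdjoinRoot f) B at iAlg
    letI := iAlg
    haveI : IsScalarTower A (AdjoinRoot f) B := htow
    have h0 : (AdjoinRoot.root f : AdjoinRoot f) ^ p = algebraMap A (AdjoinRoot f) a := by
      have := AdjoinRoot.eval₂_root f
      rw [show f = X ^ p - C a from rfl, eval₂_sub, eval₂_X_pow, eval₂_C, sub_eq_zero] at this
      exact this
    let x' : B' := algebraMap B B' (algebraMap (AdjoinRoot f) B (AdjoinRoot.root f))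
    have hx' : eval₂ (algebraMap A' B') x' f' = 0 := by
      rw [show f' = X ^ p - C a' from rfl, eval₂_sub, eval₂_X_pow, eval₂_C, ← map_pow, ← map_pow, h0,
        ← IsScalarTower.algebraMap_apply A (AdjoinRoot f) B, ← IsScalarTower.algebraMap_apply A B B',
        ← IsScalarTower.algebraMap_apply A A' B', sub_self]
    have hr' : eval₂ ((algebraMap A' (AdjoinRoot f')).comp (algebraMap A A')) (AdjoinRoot.root f') f = 0 := by
      have := AdjoinRoot.eval₂_root f'
      rw [show f' = X ^ p - C a' from rfl, eval₂_sub, eval₂_X_pow, eval₂_C] at this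
      rw [show f = X ^ p - C a from rfl, eval₂_sub, eval₂_X_pow, eval₂_C]
      exact this
    letI : Algebra (AdjoinRoot f') B' := (AdjoinRoot.lift (algebraMap A' B') x' hx').toAlgebra
    letI : Algebra (AdjoinRoot f) (AdjoinRoot f') := (AdjoinRoot.lift _ _ hr').toAlgebra
    letI : Algebra (AdjoinRoot f) B' := ((algebraMap B B').comp (algebraMap (AdjoinRoot f) B)).toAlgebra
    haveI : IsScalarTower A' (AdjoinRoot f') B' := IsScalarTower.of_algebraMap_eq fun x =>
      (AdjoinRoot.lift_of hx' (x := x)).symm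
    haveI : IsScalarTower A (AdjoinRoot f) (AdjoinRoot f') := IsScalarTower.of_algebraMap_eq fun x => by
      rw [RingHom.algebraMap_toAlgebra, AdjoinRoot.algebraMap_eq (f := f), AdjoinRoot.lift_of hr',
        RingHom.comp_apply, ← IsScalarTower.algebraMap_apply]
    haveI : IsScalarTower (AdjoinRoot f) B B' := IsScalarTower.of_algebraMap_eq fun _ => rfl
    haveI : IsScalarTower (AdjoinRoot f) (AdjoinRoot f') B' := IsScalarTower.of_algebraMap_eq' <| by
      refine Ideal.Quotient.ringHom_ext (Polynomial.ringHom_ext (fun x => ?_) ?_)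
      · change algebraMap B B' (algebraMap (AdjoinRoot f) B (algebraMap A (AdjoinRoot f) x)) =
          algebraMap (AdjoinRoot f') B' (algebraMap (AdjoinRoot f) (AdjoinRoot f') (algebraMap A (AdjoinRoot f) x))
        rw [← IsScalarTower.algebraMap_apply A (AdjoinRoot f) B, ← IsScalarTower.algebraMap_apply A B B',
          ← IsScalarTower.algebraMap_apply A (AdjoinRoot f) (AdjoinRoot f'),
          IsScalarTower.algebraMap_apply A A' (AdjoinRoot f'), ← IsScalarTower.algebraMap_apply A' (AdjoinRoot f') B',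
          ← IsScalarTower.algebraMap_apply A A' B']
      · change x' = algebraMap (AdjoinRoot f') B' (algebraMap (AdjoinRoot f) (AdjoinRoot f') (AdjoinRoot.root f))
        rw [RingHom.algebraMap_toAlgebra, RingHom.algebraMap_toAlgebra, AdjoinRoot.lift_root hr',
          AdjoinRoot.lift_root hx']
    haveI : IsScalarTower A (AdjoinRoot f') B' := IsScalarTower.of_algebraMap_eq fun x => by
      rw [IsScalarTower.algebraMap_apply A A' B', IsScalarTower.algebraMap_apply A A' (AdjoinRoot f'),
        ← IsScalarTower.algebraMap_apply A' (AdjoinRoot f') B']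
    haveI : IsScalarTower A (AdjoinRoot f) B' := IsScalarTower.of_algebraMap_eq fun x => by
      rw [IsScalarTower.algebraMap_apply A B B', IsScalarTower.algebraMap_apply A (AdjoinRoot f) B]
      rfl
    haveI : Algebra.IsPushout A A' (AdjoinRoot f) (AdjoinRoot f') := by
      have hT : eval₂ (algebraMap A' (A' ⊗[A] AdjoinRoot f)) ((1 : A') ⊗ₜ[A] AdjoinRoot.root f) f' = 0 := by
        rw [show f' = X ^ p - C a' from rfl, eval₂_sub, eval₂_X_pow, eval₂_C, Algebra.TensorProduct.tmul_pow,
          one_pow, h0, sub_eq_zero, Algebra.TensorProduct.algebraMap_apply, Algebra.algebraMap_eq_smul_one,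
          tmul_smul, smul_tmul', ← Algebra.algebraMap_eq_smul_one]
        rfl
      let G : AdjoinRoot f' →ₐ[A'] A' ⊗[A] AdjoinRoot f :=
        AdjoinRoot.liftAlgHom _ (Algebra.ofId A' _) _ hT
      let F : A' ⊗[A] AdjoinRoot f →ₐ[A'] AdjoinRoot f' :=
        Algebra.TensorProduct.lift (Algebra.ofId A' _) (IsScalarTower.toAlgHom A (AdjoinRoot f) (AdjoinRoot f'))
          fun _ _ => Commute.all _ _
      have hF : ∀ x : AdjoinRoot f, F ((1 : A') ⊗ₜ x) = algebraMap _ _ x := fun x => by simp [F]
      have hroot : algebraMap (AdjoinRoot f) (AdjoinRoot f') (AdjoinRoot.root f) = AdjoinRoot.root f' :=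
        AdjoinRoot.lift_root hr'
      have hGr : G (AdjoinRoot.root f') = (1 : A') ⊗ₜ[A] AdjoinRoot.root f := AdjoinRoot.liftAlgHom_root _ _ _ hT
      have h1 : F.comp G = AlgHom.id A' _ := AdjoinRoot.algHom_ext (by
        rw [AlgHom.comp_apply, hGr, hF, hroot]
        rfl)
      have h2 : G.comp F = AlgHom.id A' _ := Algebra.TensorProduct.ext (Algebra.ext_id _ _ _) (AdjoinRoot.algHom_ext (by
        change G (F ((1 : A') ⊗ₜ AdjoinRoot.root f)) = (1 : A') ⊗ₜ AdjoinRoot.root f
        rw [hF, hroot, hGr]))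
      letI : Algebra (AdjoinRoot f) (A' ⊗[A] AdjoinRoot f) := Algebra.TensorProduct.rightAlgebra
      refine Algebra.IsPushout.of_equiv (R := A) (R' := A') (S := AdjoinRoot f) (S' := A' ⊗[A] AdjoinRoot f)
        (AlgEquiv.ofAlgHom F G h1 h2) ?_
      exact RingHom.ext hF
    haveI hp' : Algebra.IsPushout A (AdjoinRoot f) A' (AdjoinRoot f') := Algebra.IsPushout.symm inferInstance
    haveI : Algebra.IsPushout A B A' B' := Algebra.IsPushout.symm inferInstance
    have hP : Algebra.IsPushout (AdjoinRoot f) B (AdjoinRoot f') B' :=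
      (Algebra.IsPushout.comp_iff A (AdjoinRoot f) A' (AdjoinRoot f') (T := B) (T' := B')).1 inferInstance
    haveI := hP.symm
    exact ⟨a', inferInstanceAs (Algebra (AdjoinRoot f') B'), inferInstance,
      tower_bc p n (A := AdjoinRoot f) (A' := AdjoinRoot f') (B := B) (B' := B') h⟩

theorem tower_trans (p : ℕ) : ∀ (n : ℕ) (A B C : Type u) [CommRing A] [CommRing B] [CommRing C]
    [Algebra A B] [Algebra B C] [Algebra A C] [IsScalarTower A B C] (m : ℕ),
    Quiet.IsRootTower p n A B → Quiet.IsRootTower p m B C → Quiet.IsRootTower p (n + m) A C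
  | 0, A, B, C, _, _, _, _, _, _, _, m, ⟨e⟩, h => by
    rw [zero_add]
    letI : Algebra B A := e.toAlgHom.toRingHom.toAlgebra
    haveI : IsScalarTower B A C := IsScalarTower.of_algebraMap_eq fun b => by
      have h1 : algebraMap A B (e b) = b := e.injective (by simp)
      conv_lhs => rw [← h1]
      rw [← IsScalarTower.algebraMap_apply]
      rfl
    haveI : Algebra.IsPushout B A C C := isPushout_of_bijective (A := B) (A' := A) (B := C) (B' := C)
      e.bijective Function.bijective_id
    exact tower_bc p m (A := B) (A' := A) (B := C) (B' := C) h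
  | n + 1, A, B, C, _, _, _, _, _, _, _, m, ⟨a, iR, htow, h1⟩, h2 => by
    rw [Nat.add_right_comm]
    letI := iR
    haveI : IsScalarTower A (Quiet.RootRing p A a) B := htow
    letI : Algebra (Quiet.RootRing p A a) C := ((algebraMap B C).comp (algebraMap (Quiet.RootRing p A a) B)).toAlgebra
    haveI : IsScalarTower (Quiet.RootRing p A a) B C := IsScalarTower.of_algebraMap_eq fun _ => rfl
    haveI : IsScalarTower A (Quiet.RootRing p A a) C := IsScalarTower.of_algebraMap_eq fun x => by
      rw [IsScalarTower.algebraMap_apply A B C, IsScalarTower.algebraMap_apply A (Quiet.RootRing p A a) B]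
      rfl
    exact ⟨a, inferInstance, inferInstance, tower_trans p n (Quiet.RootRing p A a) B C m h1 h2⟩

theorem isRootHom_of_bijective (p : ℕ) {A B : Type u} [CommRing A] [CommRing B] (φ : A →+* B)
    (h : Function.Bijective φ) : IsRootHom p φ := by
  letI := φ.toAlgebra
  exact ⟨0, ⟨(AlgEquiv.ofBijective (Algebra.ofId A B) h).symm⟩⟩

theorem isRootHom_comp {p : ℕ} {A B C : Type u} [CommRing A] [CommRing B] [CommRing C] {φ : A →+* B}
    {ψ : B →+* C} (hφ : IsRootHom p φ) (hψ : IsRootHom p ψ) : IsRootHom p (ψ.comp φ) := by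
  letI := φ.toAlgebra
  letI := ψ.toAlgebra
  letI : Algebra A C := (ψ.comp φ).toAlgebra
  haveI : IsScalarTower A B C := IsScalarTower.of_algebraMap_eq fun _ => rfl
  obtain ⟨n, hn⟩ := hφ
  obtain ⟨m, hm⟩ := hψ
  exact ⟨n + m, tower_trans p n A B C m hn hm⟩

theorem isRootHom_pushout {p : ℕ} {R R' S S' : CommRingCat.{u}} {f : R ⟶ R'} {g : R ⟶ S} {f' : R' ⟶ S'}
    {g' : S ⟶ S'} (h : IsPushout f g f' g') (hg : IsRootHom p g.hom) : IsRootHom p f'.hom := by
  letI : Algebra R R' := f.hom.toAlgebra
  letI : Algebra R S := g.hom.toAlgebra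
  letI : Algebra R' S' := f'.hom.toAlgebra
  letI : Algebra S S' := g'.hom.toAlgebra
  letI : Algebra R S' := (f ≫ f').hom.toAlgebra
  haveI : IsScalarTower R R' S' := IsScalarTower.of_algebraMap_eq fun _ => rfl
  haveI : IsScalarTower R S S' := IsScalarTower.of_algebraMap_eq fun x => by
    show (f ≫ f').hom x = (g ≫ g').hom x
    rw [h.w]
  haveI : Algebra.IsPushout R R' S S' := CommRingCat.isPushout_iff_isPushout.1 h
  obtain ⟨n, hn⟩ := hg
  exact ⟨n, tower_bc p n (A := R) (A' := R') (B := S) (B' := S') hn⟩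

theorem isSyntomicMor_Spec_tower {p : ℕ} [Fact p.Prime] : ∀ (n : ℕ) (A B : Type u) [CommRing A] [CommRing B]
    [Algebra A B], Quiet.IsRootTower p n A B →
      Synt.IsSyntomicMor (Spec.map (CommRingCat.ofHom (algebraMap A B)))
  | 0, A, B, _, _, _, ⟨e⟩ => by
    rw [TransLib.isSyntomicMor_iff]
    have hb : Function.Bijective (algebraMap A B) := by
      have : (algebraMap A B : A → B) = e.symm := funext fun x => (e.symm.commutes x).symm
      rw [this]; exact e.symm.bijective
    haveI : IsIso (CommRingCat.ofHom (algebraMap A B)) :=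
      ((RingEquiv.ofBijective _ hb).toCommRingCatIso).isIso_hom
    exact TransLib.syntMor_of_smooth _
  | n + 1, A, B, _, _, _, ⟨a, iR, htow, h⟩ => by
    letI := iR
    haveI : IsScalarTower A (Quiet.RootRing p A a) B := htow
    rw [IsScalarTower.algebraMap_eq A (Quiet.RootRing p A a) B, CommRingCat.ofHom_comp, Spec.map_comp,
      CIRingLib.isSyntomicMor_iff_isCIMorphism]
    refine CIRingLib.isCIMorphism_comp _ _ ((CIRingLib.isSyntomicMor_iff_isCIMorphism _).1
      (isSyntomicMor_Spec_tower n (Quiet.RootRing p A a) B h)) ((CIRingLib.isSyntomicMor_iff_isCIMorphism _).1 ?_)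
    rw [TransLib.isSyntomicMor_iff, HasRingHomProperty.Spec_iff (P := TransLib.SyntMor), CommRingCat.hom_ofHom]
    exact TransLib.syntHom_algebraMap.2 (Groth.Agent.S18934.result p A a).1

theorem syntHom_of_isRootHom {p : ℕ} [Fact p.Prime] {A B : Type u} [CommRing A] [CommRing B] {φ : A →+* B}
    (h : IsRootHom p φ) : TransLib.SyntHom φ := by
  letI := φ.toAlgebra
  obtain ⟨n, hn⟩ := h
  have := isSyntomicMor_Spec_tower n A B hn
  rw [TransLib.isSyntomicMor_iff, HasRingHomProperty.Spec_iff (P := TransLib.SyntMor)] at this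
  exact this

theorem univHomeo_tower {p : ℕ} [hp : Fact p.Prime] : ∀ (n : ℕ) (A B : Type u) [CommRing A] [CommRing B]
    [Algebra A B], Quiet.IsRootTower p n A B → (p : A) = 0 →
      (algebraMap A B).IsIntegral ∧ Function.Surjective (PrimeSpectrum.comap (algebraMap A B)) ∧
        ∀ (K : Type u) [Field K] (g₁ g₂ : B →+* K), g₁.comp (algebraMap A B) = g₂.comp (algebraMap A B) → g₁ = g₂
  | 0, A, B, _, _, _, ⟨e⟩, _ => by
    have hb : Function.Surjective (algebraMap A B) := by
      have : (algebraMap A B : A → B) = e.symm := funext fun x => (e.symm.commutes x).symm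
      rw [this]; exact e.symm.surjective
    refine ⟨RingHom.isIntegral_of_surjective _ hb, fun q => ⟨PrimeSpectrum.comap e.toAlgHom.toRingHom q, ?_⟩,
      fun K _ g₁ g₂ h => RingHom.ext fun b => ?_⟩
    · rw [← PrimeSpectrum.comap_comp_apply]
      rw [show e.toAlgHom.toRingHom.comp (algebraMap A B) = RingHom.id A from RingHom.ext fun x => e.commutes x,
        PrimeSpectrum.comap_id]
    · obtain ⟨x, rfl⟩ := hb b
      exact RingHom.congr_fun h x
  | n + 1, A, B, _, _, _, ⟨a, iR, htow, h⟩, hA => by
    letI := iR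
    haveI : IsScalarTower A (Quiet.RootRing p A a) B := htow
    have hR : ((p : ℕ) : Quiet.RootRing p A a) = 0 := by
      rw [← map_natCast (algebraMap A (Quiet.RootRing p A a)), hA, map_zero]
    obtain ⟨h1, h2, h3⟩ := univHomeo_tower n (Quiet.RootRing p A a) B h hR
    haveI : Module.Finite A (AdjoinRoot (X ^ p - C a)) :=
      (Polynomial.monic_X_pow_sub_C a hp.out.ne_zero).finite_adjoinRoot
    haveI : Module.FaithfullyFlat A (AdjoinRoot (X ^ p - C a)) := (Groth.Agent.S18934.result p A a).2
    rw [IsScalarTower.algebraMap_eq A (Quiet.RootRing p A a) B]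
    refine ⟨RingHom.IsIntegral.trans _ _ (algebraMap_isIntegral_iff.2 inferInstance) h1, ?_, fun K _ g₁ g₂ hg => ?_⟩
    · exact fun q => by
        obtain ⟨q', rfl⟩ := PrimeSpectrum.comap_surjective_of_faithfullyFlat (B := Quiet.RootRing p A a) q
        obtain ⟨q'', rfl⟩ := h2 q'
        exact ⟨q'', rfl⟩
    refine h3 K g₁ g₂ (Ideal.Quotient.ringHom_ext (Polynomial.ringHom_ext (fun x => RingHom.congr_fun hg x) ?_))
    change g₁ (algebraMap _ B (AdjoinRoot.root (X ^ p - C a))) = g₂ (algebraMap _ B (AdjoinRoot.root (X ^ p - C a)))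
    have hK : (p : K) = 0 := by
      rw [← map_natCast (g₁.comp (algebraMap (Quiet.RootRing p A a) B)), hR, map_zero]
    haveI : CharP K p := (CharP.charP_iff_prime_eq_zero hp.out).2 hK
    refine frobenius_inj K p ?_
    have h0 : AdjoinRoot.root (X ^ p - C a) ^ p = algebraMap A (Quiet.RootRing p A a) a := by
      have := AdjoinRoot.eval₂_root (X ^ p - C a)
      rw [eval₂_sub, eval₂_X_pow, eval₂_C, sub_eq_zero] at this
      exact this
    simp only [frobenius_def, ← map_pow, h0]
    exact RingHom.congr_fun hg a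

theorem univHomeo_of_isRootHom {p : ℕ} [Fact p.Prime] {A B : Type u} [CommRing A] [CommRing B] {φ : A →+* B}
    (h : IsRootHom p φ) (hA : (p : A) = 0) : FlatMor.IsUnivHomeo (Spec.map (CommRingCat.ofHom φ)) := by
  letI := φ.toAlgebra
  obtain ⟨n, hn⟩ := h
  exact (AWNLib.univHomeo_iff φ).2 (univHomeo_tower n A B hn hA)

end QuietLib
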